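import Cfsg.Agent.H883.C7.NIface
import Cfsg.Agent.H883.C7.Cent

/-!
# The submodule of second vectors of root elements; closure of a submodule under the Siegel group of a slot
-/

set_option autoImplicit false
set_option linter.unusedSectionVars false

namespace Cfsg.Agent.H567.C7

open QuadraticMap hiding proj
open Cfsg.Agent.LieClassical.OrthCore Cfsg.Agent.LieClassical.OrthTrans
open Cfsg.Agent.H882.Ten Cfsg.Agent.LieClassical.OrthFinite
open Cfsg.Agent.H883.C7 Cfsg.Agent.H883.Root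

section gen

variable {F V : Type*} [Field F] [AddCommGroup V] [Module F V] {Q : QuadraticForm F V}

/-- The vectors all of whose multiples give Siegel transformations at `u` in `H`. -/
def HW (Q : QuadraticForm F V) (H : Subgroup (V ≃ₗ[F] V)) {u : V} (hu : Q u = 0) : Submodule F V where
  carrier := {v | ∀ r : F, Has Q H u (r • v)}
  zero_mem' := fun r => by rw [smul_zero]; exact has_zero hu
  add_mem' := fun {v w} hv hw r => by rw [smul_add]; exact (hv r).add (hw r)
  smul_mem' := fun c v hv r => by rw [smul_smul]; exact hv (r * c)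

variable {H : Subgroup (V ≃ₗ[F] V)} {u x y v w : V}

theorem mem_HW {hu : Q u = 0} : v ∈ HW Q H hu ↔ ∀ r : F, Has Q H u (r • v) := Iff.rfl

theorem has_of_mem {hu : Q u = 0} (h : v ∈ HW Q H hu) : Has Q H u v := by
  have := mem_HW.1 h 1
  rwa [one_smul] at this

theorem map_mem_HW {hu : Q u = 0} (h : v ∈ HW Q H hu) {g : V ≃ₗ[F] V} (hgO : g ∈ O Q) (hg : g ∈ H)
    {u' : V} (e : g u = u') (hu' : Q u' = 0) : g v ∈ HW Q H hu' := by
  intro r
  have := (mem_HW.1 h r).map hgO hg
  rw [map_smul, e] at this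
  exact this

/-- First commutator rule. -/
theorem mem_HW_of_comm {hu : Q u = 0} {hx : Q x = 0} (hw : Has Q H u w) (hy : y ∈ HW Q H hx)
    (hxu : polar Q x u = 0) (hyu : polar Q y u = 0) (hQy : Q y = 0) (hyw : polar Q y w = 0)
    (hxw : polar Q x w ≠ 0) : y ∈ HW Q H hu := by
  intro r
  have h1 := mem_HW.1 hy (r * (polar Q x w)⁻¹)
  have h2 := h1.comm' hw hxu (by rw [polar_smul_left, hyu, smul_zero])
    (by rw [QuadraticMap.map_smul, hQy, smul_zero]) (by rw [polar_smul_left, hyw, smul_zero])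
  rw [smul_smul, mul_comm r, mul_inv_cancel_left₀ hxw] at h2
  exact h2

/-- Second commutator rule. -/
theorem mem_HW_of_comm2 {hu : Q u = 0} {hx : Q x = 0} (hw : Has Q H u w) (hy : y ∈ HW Q H hx)
    (hxu : polar Q x u = 0) (hyu : polar Q y u = 0) (hxw : polar Q x w = 0)
    (hyw : polar Q y w ≠ 0) : x ∈ HW Q H hu := by
  intro r
  have h1 := mem_HW.1 hy (-(r * (polar Q y w)⁻¹))
  have h2 := h1.comm hw hxu (by rw [polar_smul_left, hyu, smul_zero])
  rw [hxw, zero_smul, zero_sub, mul_zero, add_zero, polar_smul_left, smul_eq_mul, ← neg_smul, neg_mul, neg_neg,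
    mul_assoc, inv_mul_cancel₀ hyw, mul_one] at h2
  exact h2

/-- A submodule closed under the Siegel group of `a` which contains a vector not orthogonal to `a` is
everything. -/
theorem top_of_siegel (h2 : (2 : F) ≠ 0) {a b z : V} (hyp : Hyp Q a b) (hz : polar Q a z = 0) (hqz : Q z ≠ 0)
    {W : Submodule F V} {x : V} (hx : x ∈ W) (hax : polar Q a x ≠ 0)
    (hW : ∀ (y : V) (hy : polar Q a y = 0), ∀ v ∈ W, siegel Q a y hyp.left hy v ∈ W) : W = ⊤ := by
  have hneg : ∀ y, polar Q a y = 0 → polar Q a (-y) = 0 := fun y hy => by rw [polar_neg_right, hy, neg_zero]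
  have haW : a ∈ W := by
    have h1 := W.sub_mem (W.sub_mem (W.add_mem (hW z hz x hx) (hW (-z) (hneg z hz) x hx)) hx) hx
    rw [siegel_apply, siegel_apply, polar_neg_left, QuadraticMap.map_neg] at h1
    have e : x + polar Q a x • z - polar Q z x • a - (Q z * polar Q a x) • a +
        (x + polar Q a x • -z - -polar Q z x • a - (Q z * polar Q a x) • a) - x - x =
        (-(2 * (Q z * polar Q a x))) • a := by module
    rw [e] at h1
    exact (W.smul_mem_iff (neg_ne_zero.2 (mul_ne_zero h2 (mul_ne_zero hqz hax)))).1 h1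
  have hperp : ∀ y, polar Q a y = 0 → y ∈ W := by
    intro y hy
    have h1 := W.add_mem (W.sub_mem (hW y hy x hx) hx) (W.smul_mem (polar Q y x + Q y * polar Q a x) haW)
    rw [siegel_apply] at h1
    have e : x + polar Q a x • y - polar Q y x • a - (Q y * polar Q a x) • a - x +
        (polar Q y x + Q y * polar Q a x) • a = polar Q a x • y := by module
    rw [e] at h1
    exact (W.smul_mem_iff hax).1 h1
  rw [eq_top_iff]
  intro v _
  have h1 : v - (polar Q a v * (polar Q a x)⁻¹) • x ∈ W := hperp _ (by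
    rw [polar_sub_right, polar_smul_right, smul_eq_mul, mul_assoc, inv_mul_cancel₀ hax, mul_one, sub_self])
  have h3 := W.add_mem h1 (W.smul_mem (polar Q a v * (polar Q a x)⁻¹) hx)
  rwa [sub_add_cancel] at h3

end gen

section slot

variable {F : Type*} [Field F] {κ : Type*} [Fintype κ] [DecidableEq κ] {ι : Type*} [Fintype ι] [DecidableEq ι]
  {q : QuadraticForm F (κ → F)}

theorem QT_tp (h2 : (2 : F) ≠ 0) {x : ι → (κ → F)} {i : ι} (hi : q (x i) = 0) : QT q ι (tp x) = 0 := by
  have h1 := polar_self' (Q := QT q ι) (tp x)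
  rw [polar_tp h2, Finset.prod_eq_zero (Finset.mem_univ i) (polar_self_of_sing hi)] at h1
  exact (mul_eq_zero.1 h1.symm).resolve_left h2

theorem polar_tp_zero (h2 : (2 : F) ≠ 0) {x y : ι → (κ → F)} (i : ι) (hi : polar q (x i) (y i) = 0) :
    polar (QT q ι) (tp x) (tp y) = 0 := by
  rw [polar_tp h2]
  exact Finset.prod_eq_zero (Finset.mem_univ i) hi

theorem polar_tp_ne (h2 : (2 : F) ≠ 0) {x y : ι → (κ → F)} (h : ∀ i, polar q (x i) (y i) ≠ 0) :
    polar (QT q ι) (tp x) (tp y) ≠ 0 := by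
  rw [polar_tp h2]
  exact Finset.prod_ne_zero_iff.2 fun i _ => h i

theorem isMono_opE (f : ι → ((κ → F) ≃ₗ[F] (κ → F))) : IsMono (opE f) := ⟨f, 1, by rw [map_one, mul_one]⟩

variable {M : Subgroup (((ι → κ) → F) ≃ₗ[F] ((ι → κ) → F))}

theorem opE_sq_mem (h2 : (2 : F) ≠ 0) (hG : Good (QT q ι)) (hM : Over q M) {f : ι → ((κ → F) ≃ₗ[F] (κ → F))}
    (hf : ∀ i, f i ∈ O q) : opE (fun i => f i * f i) ∈ M :=
  hM.2 _ (opE_sq_mem_E h2 hG hf) (isMono_opE _)

theorem opE_sq_mem_O (h2 : (2 : F) ≠ 0) {f : ι → ((κ → F) ≃ₗ[F] (κ → F))}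
    (hf : ∀ i, f i ∈ O q) : opE (fun i => f i * f i) ∈ O (QT q ι) :=
  opE_mem_O h2 fun i => (O q).mul_mem (hf i) (hf i)

theorem slE_siegel_mem (h2 : (2 : F) ≠ 0) (hG : Good (QT q ι)) (hM : Over q M) (i : ι)
    {u x : κ → F} (hu : q u = 0) (hx : polar q u x = 0) : slE i (siegel q u x hu hx) ∈ M :=
  hM.2 _ (slE_siegel_mem_E h2 hG i hu hx) (by rw [slE_eq]; exact isMono_opE _)

/-- Filling slot `l`. -/
theorem fill (h2 : (2 : F) ≠ 0) (hq : Nondeg q) (hd : 3 ≤ Fintype.card κ) {a : ι → (κ → F)}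
    (ha : ∀ l, a l ≠ 0 ∧ q (a l) = 0) {W : Submodule F ((ι → κ) → F)} (l : ι)
    (hW : ∀ (y : κ → F) (hy : polar q (a l) y = 0), ∀ v ∈ W, slE l (siegel q (a l) y (ha l).2 hy) v ∈ W)
    {x : ι → (κ → F)} (hx : tp x ∈ W) (hax : polar q (a l) (x l) ≠ 0) (v : κ → F) :
    tp (Function.update x l v) ∈ W := by
  obtain ⟨b, hyp⟩ := LieClassical.OrthTrans.exists_hyp hq (ha l).2 (ha l).1
  obtain ⟨z, hz1, _, hz3⟩ := exists_nonsing_perp hq (by rw [Module.finrank_fintype_fun_eq_card]; exact hd) hyp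
  let L : (κ → F) →ₗ[F] ((ι → κ) → F) := (tpM F ι κ).toLinearMap x l
  have hL : ∀ u, L u = tp (Function.update x l u) := fun u => rfl
  have htop : W.comap L = ⊤ := by
    refine top_of_siegel h2 hyp hz1 hz3 (x := x l) ?_ hax ?_
    · rw [Submodule.mem_comap, hL, Function.update_eq_self]
      exact hx
    · intro y hy v hv
      rw [Submodule.mem_comap, hL] at hv ⊢
      have h1 := hW y hy _ hv
      rw [slE_tp, Function.update_self, Function.update_idem] at h1
      exact h1
  have h1 : v ∈ W.comap L := by rw [htop]; trivial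
  rwa [Submodule.mem_comap, hL] at h1

/-- Filling the slots in `S`. -/
theorem fill_all (h2 : (2 : F) ≠ 0) (hq : Nondeg q) (hd : 3 ≤ Fintype.card κ) {a : ι → (κ → F)}
    (ha : ∀ l, a l ≠ 0 ∧ q (a l) = 0) {W : Submodule F ((ι → κ) → F)}
    (hW : ∀ (l : ι) (y : κ → F) (hy : polar q (a l) y = 0), ∀ v ∈ W, slE l (siegel q (a l) y (ha l).2 hy) v ∈ W)
    {x : ι → (κ → F)} (hx : tp x ∈ W) (S : Finset ι) (hax : ∀ l ∈ S, polar q (a l) (x l) ≠ 0)
    (v : ι → (κ → F)) : tp (fun l => if l ∈ S then v l else x l) ∈ W := by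
  induction S using Finset.induction_on with
  | empty => simpa using hx
  | insert i S hi ih =>
    have h1 := ih fun l hl => hax l (Finset.mem_insert_of_mem hl)
    have h3 := fill h2 hq hd ha i (hW i) h1 (by
      show polar q (a i) (if i ∈ S then v i else x i) ≠ 0
      rw [if_neg hi]
      exact hax i (Finset.mem_insert_self _ _)) (v i)
    convert h3 using 2
    funext j
    by_cases hj : j = i
    · subst hj
      rw [Function.update_self, if_pos (Finset.mem_insert_self _ _)]
    · rw [Function.update_of_ne hj]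
      by_cases hjS : j ∈ S
      · rw [if_pos (Finset.mem_insert_of_mem hjS), if_pos hjS]
      · rw [if_neg, if_neg hjS]
        intro h
        rcases Finset.mem_insert.1 h with h | h
        · exact hj h
        · exact hjS h

end slot

end Cfsg.Agent.H567.C7
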